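import Groth.Prelude.Def_W4bk4bump814p2PDiff
import Mathlib.FieldTheory.Perfect
import Mathlib.Data.Nat.Choose.Sum
import Mathlib.NumberTheory.Padics.PadicVal.Basic
import Mathlib.Tactic.Module
import Mathlib.Tactic.Ring

/-!
# The filtration of Kaehler differentials by power differentials

The subsets `Σ^i` are the additive subgroups generated by the lower power differentials.
-/

set_option autoImplicit false

universe u v

open W4bk4bump814p2

namespace Groth.PDiffSigma

variable (K : Type u) (A : Type v) [CommRing K] [CommRing A] [Algebra K A] (p : ℕ) [hp : Fact p.Prime]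

local notation "dd" => KaehlerDifferential.D K A

/-- The subgroup generated by the power differentials of level below `i`. -/
noncomputable def sub (i : ℕ) : AddSubgroup (Ω[A⁄K]) :=
  AddSubgroup.closure (⋃ j ∈ Finset.range i, Set.range (delta K A p j))

omit hp in
theorem delta_mem_sub {i j : ℕ} (h : j < i) (x : A) : delta K A p j x ∈ sub K A p i :=
  AddSubgroup.subset_closure (Set.mem_biUnion (Finset.mem_range.mpr h) ⟨x, rfl⟩)

omit hp in
theorem pow_expand {N : ℕ} (x y : A) :
    (x + y) ^ N • dd (x + y) - x ^ N • dd x - y ^ N • dd y =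
      ∑ m ∈ Finset.range N, ((N.choose m • (x ^ m * y ^ (N - m))) • dd x +
        (N.choose (m + 1) • (x ^ (m + 1) * y ^ (N - (m + 1)))) • dd y) := by
  rw [map_add, smul_add, Finset.sum_add_distrib, ← Finset.sum_smul, ← Finset.sum_smul]
  have h : (x + y) ^ N = ∑ m ∈ Finset.range (N + 1), N.choose m • (x ^ m * y ^ (N - m)) := by
    rw [add_pow]
    refine Finset.sum_congr rfl fun m _ => ?_
    rw [nsmul_eq_mul, mul_comm]
  have h1 := h
  rw [Finset.sum_range_succ] at h1
  have h2 := h
  rw [Finset.sum_range_succ'] at h2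
  conv_lhs => enter [1, 1, 1]; rw [h1]
  conv_lhs => enter [1, 1, 2]; rw [h2]
  simp only [Nat.choose_self, Nat.choose_zero_right, one_smul, Nat.sub_self, pow_zero, mul_one, one_mul,
    Nat.sub_zero]
  module

/-- The integer `c` with `a' c = C(N, a - 1)` and `b' c = C(N, a)`. -/
theorem exists_coeff {i N m : ℕ} (hN : N + 1 = p ^ i) (hm : m < N) :
    ∃ k a b c, k < i ∧ m + 1 = p ^ k * a ∧ N - m = p ^ k * b ∧ a * c = N.choose m ∧ b * c = N.choose (m + 1) := by
  obtain ⟨k, a, ha, hka⟩ := Nat.exists_eq_pow_mul_and_not_dvd (Nat.succ_ne_zero m) p hp.out.ne_one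
  rw [Nat.succ_eq_add_one] at hka
  have hk : k < i := by
    by_contra hk
    have h1 : p ^ i ≤ p ^ k := Nat.pow_le_pow_right hp.out.pos (not_lt.mp hk)
    have h2 : p ^ k ≤ p ^ k * a := Nat.le_mul_of_pos_right _ (Nat.pos_of_ne_zero fun h => ha (h ▸ dvd_zero p))
    omega
  obtain ⟨r, rfl⟩ : ∃ r, i = k + r := ⟨i - k, by omega⟩
  rw [pow_add] at hN
  have hb : N - m = p ^ k * (p ^ r - a) := by rw [Nat.mul_sub, ← hka]; omega
  have hpk : 0 < p ^ k := pow_pos hp.out.pos k
  have e1 : p ^ r * N.choose m = a * (N + 1).choose (m + 1) := by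
    refine Nat.eq_of_mul_eq_mul_left hpk ?_
    rw [← mul_assoc, ← hN, ← mul_assoc, ← hka, Nat.add_one_mul_choose_eq, mul_comm]
  have hcop : Nat.Coprime (p ^ r) a := Nat.Coprime.pow_left r (hp.out.coprime_iff_not_dvd.mpr ha)
  obtain ⟨c, hc⟩ : p ^ r ∣ (N + 1).choose (m + 1) := hcop.dvd_of_dvd_mul_left ⟨_, e1.symm⟩
  have hpr : 0 < p ^ r := pow_pos hp.out.pos r
  have hac : a * c = N.choose m :=
    Nat.eq_of_mul_eq_mul_left hpr (by rw [e1, hc]; ring)
  refine ⟨k, a, p ^ r - a, c, hk, hka, hb, hac, ?_⟩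
  have hsum : (N + 1).choose (m + 1) = N.choose m + N.choose (m + 1) := Nat.choose_succ_succ N m
  rw [Nat.sub_mul, hac, ← hc, hsum, Nat.add_sub_cancel_left]

theorem defect_mem (i : ℕ) (x y : A) :
    delta K A p i (x + y) - delta K A p i x - delta K A p i y ∈ sub K A p i := by
  obtain ⟨N, hN⟩ : ∃ N, N + 1 = p ^ i :=
    ⟨p ^ i - 1, Nat.sub_add_cancel (Nat.one_le_pow _ _ hp.out.pos)⟩
  simp only [delta, ← hN, Nat.add_sub_cancel]
  rw [pow_expand]
  refine AddSubgroup.sum_mem _ fun m hm => ?_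
  rw [Finset.mem_range] at hm
  obtain ⟨k, a, b, c, hk, hka, hkb, hac, hbc⟩ := exists_coeff p hN hm
  have key : ((N.choose m • (x ^ m * y ^ (N - m))) • dd x +
      (N.choose (m + 1) • (x ^ (m + 1) * y ^ (N - (m + 1)))) • dd y) = c • delta K A p k (x ^ a * y ^ b) := by
    have ha : 1 ≤ a := Nat.pos_of_ne_zero fun h => by rw [h, mul_zero] at hka; omega
    have hb : 1 ≤ b := Nat.pos_of_ne_zero fun h => by rw [h, mul_zero] at hkb; omega
    obtain ⟨a, rfl⟩ : ∃ a', a = a' + 1 := ⟨a - 1, by omega⟩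
    obtain ⟨b, rfl⟩ : ∃ b', b = b' + 1 := ⟨b - 1, by omega⟩
    obtain ⟨q, hq⟩ : ∃ q, p ^ k = q + 1 := ⟨p ^ k - 1, (Nat.sub_add_cancel (Nat.one_le_pow _ _ hp.out.pos)).symm⟩
    rw [hq] at hka hkb
    obtain rfl : m = q * (a + 1) + a := by rw [add_mul, one_mul] at hka; omega
    have e1 : N - (q * (a + 1) + a) = q * (b + 1) + (b + 1) := by rw [hkb]; ring
    have e2 : N - (q * (a + 1) + a + 1) = q * (b + 1) + b := by omega
    rw [delta, hq, Nat.add_sub_cancel, Derivation.leibniz, Derivation.leibniz_pow, Derivation.leibniz_pow,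
      ← hac, ← hbc, e1, e2]
    simp only [Nat.add_sub_cancel, ← Nat.cast_smul_eq_nsmul A, smul_eq_mul, Nat.cast_mul]
    match_scalars <;> ring
  rw [key]
  exact AddSubgroup.nsmul_mem _ (delta_mem_sub K A p hk _) _

omit hp in
theorem delta_zero_right (hp0 : p ≠ 0) (i : ℕ) : delta K A p i 0 = 0 := by
  rw [delta, map_zero, smul_zero]

theorem mem_sigma_iff : ∀ (i : ℕ) (ω : Ω[A⁄K]), ω ∈ sigma K A p i ↔ ω ∈ sub K A p i
  | 0, ω => by
    simp [sub]
  | i + 1, ω => by
    constructor
    · rintro ⟨x, hx⟩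
      have h1 : sub K A p i ≤ sub K A p (i + 1) :=
        AddSubgroup.closure_mono (Set.biUnion_subset_biUnion_left fun j hj => by
          simp only [Finset.coe_range, Set.mem_Iio] at hj ⊢; omega)
      have := AddSubgroup.add_mem _ (h1 ((mem_sigma_iff i _).mp hx)) (delta_mem_sub K A p (Nat.lt_succ_self i) x)
      rwa [sub_add_cancel] at this
    · intro h
      induction h using AddSubgroup.closure_induction with
      | mem z hz =>
        obtain ⟨j, hj, x, rfl⟩ := Set.mem_iUnion₂.mp hz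
        rcases Nat.lt_succ_iff_lt_or_eq.mp (Finset.mem_range.mp hj) with hlt | rfl
        · exact ⟨0, by rw [delta_zero_right K A p hp.out.ne_zero, sub_zero]; exact (mem_sigma_iff i _).mpr (delta_mem_sub K A p hlt x)⟩
        · exact ⟨x, by rw [sub_self]; exact (mem_sigma_iff j _).mpr (AddSubgroup.zero_mem _)⟩
      | zero => exact ⟨0, by rw [delta_zero_right K A p hp.out.ne_zero, sub_zero]; exact (mem_sigma_iff i _).mpr (AddSubgroup.zero_mem _)⟩
      | add a b _ _ ha hb =>
        obtain ⟨x, hx⟩ := ha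
        obtain ⟨y, hy⟩ := hb
        refine ⟨x + y, (mem_sigma_iff i _).mpr ?_⟩
        have := AddSubgroup.sub_mem _ (AddSubgroup.add_mem _ ((mem_sigma_iff i _).mp hx) ((mem_sigma_iff i _).mp hy))
          (defect_mem K A p i x y)
        convert this using 1
        abel
      | neg a _ ha =>
        obtain ⟨x, hx⟩ := ha
        refine ⟨-x, (mem_sigma_iff i _).mpr ?_⟩
        have h := defect_mem K A p i x (-x)
        rw [add_neg_cancel, delta_zero_right K A p hp.out.ne_zero] at h
        have := AddSubgroup.sub_mem _ h ((mem_sigma_iff i _).mp hx)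
        convert this using 1
        abel

theorem sigma_eq (i : ℕ) : sigma K A p i = (sub K A p i : Set (Ω[A⁄K])) :=
  Set.ext fun ω => mem_sigma_iff K A p i ω

theorem pow_smul_mem [CharP K p] (i : ℕ) (x : A) {ω : Ω[A⁄K]} (hω : ω ∈ sub K A p i) :
    (x ^ p ^ i) • ω ∈ sub K A p i := by
  induction hω using AddSubgroup.closure_induction with
  | mem z hz =>
    obtain ⟨j, hj, y, rfl⟩ := Set.mem_iUnion₂.mp hz
    have hj' := Finset.mem_range.mp hj
    have hp0 : ((p ^ (i - j) : ℕ) : A) = 0 := by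
      rw [Nat.cast_pow, show (p : A) = 0 by rw [← map_natCast (algebraMap K A), CharP.cast_eq_zero, map_zero]]
      exact zero_pow (by omega)
    have hd : dd (x ^ p ^ (i - j)) = 0 := by
      rw [Derivation.leibniz_pow, ← Nat.cast_smul_eq_nsmul A, hp0, zero_smul]
    obtain ⟨q, hq⟩ : ∃ q, p ^ j = q + 1 := ⟨p ^ j - 1, (Nat.sub_add_cancel (Nat.one_le_pow _ _ hp.out.pos)).symm⟩
    have e : delta K A p j (x ^ p ^ (i - j) * y) = (x ^ p ^ i) • delta K A p j y := by
      rw [delta, delta, Derivation.leibniz, hd, smul_zero, add_zero, smul_smul, smul_smul, hq, Nat.add_sub_cancel,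
        show p ^ i = p ^ (i - j) * (q + 1) by rw [← hq, ← pow_add]; congr 1; omega]
      congr 1
      rw [pow_mul, mul_pow]
      ring
    rw [← e]
    exact delta_mem_sub K A p hj' _
  | zero => rw [smul_zero]; exact AddSubgroup.zero_mem _
  | add a b _ _ ha hb => rw [smul_add]; exact AddSubgroup.add_mem _ ha hb
  | neg a _ ha => rw [smul_neg]; exact AddSubgroup.neg_mem _ ha

end Groth.PDiffSigma

namespace Groth.PDiffSigma

theorem algebraMap_smul_mem (K : Type u) (A : Type v) [Field K] [PerfectField K] (p : ℕ) [hp : Fact p.Prime]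
    [CharP K p] [CommRing A] [Algebra K A] (i : ℕ) (c : K) {ω : Ω[A⁄K]} (hω : ω ∈ sub K A p i) :
    c • ω ∈ sub K A p i := by
  induction hω using AddSubgroup.closure_induction with
  | mem z hz =>
    obtain ⟨j, hj, y, rfl⟩ := Set.mem_iUnion₂.mp hz
    haveI : ExpChar K p := ExpChar.prime hp.out
    haveI := PerfectField.toPerfectRing (K := K) p
    obtain ⟨e, he⟩ := (iterateFrobeniusEquiv K p j).surjective c
    rw [iterateFrobeniusEquiv_apply, iterateFrobenius_def] at he
    obtain ⟨q, hq⟩ : ∃ q, p ^ j = q + 1 := ⟨p ^ j - 1, (Nat.sub_add_cancel (Nat.one_le_pow _ _ hp.out.pos)).symm⟩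
    have e1 : delta K A p j (e • y) = c • delta K A p j y := by
      rw [delta, delta, Derivation.map_smul, ← he, hq, Nat.add_sub_cancel, smul_pow, smul_assoc,
        smul_comm (y ^ q) e, smul_smul, pow_succ]
    rw [← e1]
    exact delta_mem_sub K A p (Finset.mem_range.mp hj) _
  | zero => rw [smul_zero]; exact AddSubgroup.zero_mem _
  | add a b _ _ ha hb => rw [smul_add]; exact AddSubgroup.add_mem _ ha hb
  | neg a _ ha => rw [smul_neg]; exact AddSubgroup.neg_mem _ ha

end Groth.PDiffSigma
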